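/-
helper40: a concrete field with four elements, coded vectors of length six, unitary transvections.
-/
import Cfsg.Agent.Lib.Helper5.SUEich

set_option autoImplicit false

namespace Cfsg.Agent.Lib.Helper40.U6

open Matrix Cfsg.Agent.Lib.Helper5

/-- the field with four elements `0, 1, ω, ω²` -/
inductive K4
  | z | o | w | u
  deriving DecidableEq

instance instFintypeK4 : Fintype K4 :=
  ⟨⟨[K4.z, K4.o, K4.w, K4.u], by decide⟩, by intro x; cases x <;> decide⟩

namespace K4

/-- addition -/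
def add : K4 → K4 → K4
  | z, b => b
  | a, z => a
  | o, o => z | o, w => u | o, u => w
  | w, o => u | w, w => z | w, u => o
  | u, o => w | u, w => o | u, u => z

/-- multiplication -/
def mul : K4 → K4 → K4
  | z, _ => z
  | _, z => z
  | o, b => b
  | a, o => a
  | w, w => u | w, u => o
  | u, w => o | u, u => w

/-- inversion -/
def inv : K4 → K4
  | z => z | o => o | w => u | u => w

instance : Add K4 := ⟨add⟩
instance : Mul K4 := ⟨mul⟩
instance : Neg K4 := ⟨id⟩
instance : Inv K4 := ⟨inv⟩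
instance : Zero K4 := ⟨z⟩
instance : One K4 := ⟨o⟩

instance instFieldK4 : Field K4 :=
  Field.ofMinimalAxioms K4 (by decide) (by decide) (by decide) (by decide) (by decide) (by decide)
    (by decide) (by decide) (by decide) (by decide)

theorem card_eq : Fintype.card K4 = 4 := rfl

theorem card_eq' : Fintype.card K4 = 2 ^ 2 := rfl

end K4

/-- the vectors -/
abbrev V6 : Type := Fin 6 → K4

/-- the hermitian form -/
abbrev hf (x y : V6) : K4 := Cfsg.hermForm 6 K4 2 x y

/-- decoding of field elements -/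
def ofN : ℕ → K4
  | 0 => .z | 1 => .o | 2 => .w | _ => .u

/-- decoding of vectors -/
def dec (n : ℕ) : V6 := fun i => ofN ((n >>> (2 * i.val)) &&& 3)

/-- the unitary transvection with centre `v` -/
def tv (v : V6) (hv : hf v v = 0) : Cfsg.SU 6 K4 2 :=
  eSU K4.card_eq' v 0 1 hv (hermForm_zero_left v) (by
    rw [hermForm_zero_left]; decide)

theorem tv_mulVec (v : V6) (hv : hf v v = 0) (x : V6) :
    (tv v hv).1.1 *ᵥ x = x + hf x v • v := by
  rw [tv, eSU_mulVec, hermForm_zero_right K4.card_eq']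
  simp

/-- the transvection with a coded centre -/
def tvc (n : ℕ) : Cfsg.SU 6 K4 2 :=
  if h : hf (dec n) (dec n) = 0 then tv (dec n) h else 1

/-- the map `x ↦ x + h(x, v) v` -/
def tf (n : ℕ) (x : V6) : V6 := x + hf x (dec n) • dec n

theorem tvc_mulVec {n : ℕ} (h : hf (dec n) (dec n) = 0) (x : V6) :
    (tvc n).1.1 *ᵥ x = tf n x := by
  rw [tvc, dif_pos h, tv_mulVec, tf]

/-- products of transvections -/
def tl (l : List ℕ) : Cfsg.SU 6 K4 2 := (l.map tvc).prod

theorem tl_mulVec (l : List ℕ) (h : ∀ n ∈ l, hf (dec n) (dec n) = 0) (x : V6) :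
    (tl l).1.1 *ᵥ x = l.foldr tf x := by
  induction l with
  | nil => simp [tl, SU_one_mulVec]
  | cons n l ih =>
    have e : tl (n :: l) = tvc n * tl l := by simp [tl]
    rw [e, SU_mul_mulVec, ih (fun m hm => h m (List.mem_cons_of_mem _ hm)),
      tvc_mulVec (h n List.mem_cons_self), List.foldr_cons]

/-- a matrix having all the vectors `e_i + c e_j` (`c = 1, ω`) as eigenvectors is scalar -/
theorem scalar_of_eigen (M : Matrix (Fin 6) (Fin 6) K4)
    (h : ∀ i j : Fin 6, i ≠ j → ∀ c : K4, c = 1 ∨ c = K4.w →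
      ∃ l : K4, M *ᵥ (Pi.single i 1 + c • Pi.single j 1) = l • (Pi.single i 1 + c • Pi.single j 1)) :
    ∃ a : K4, M = Matrix.scalar (Fin 6) a := by
  have ent : ∀ (i j k : Fin 6) (c : K4),
      (M *ᵥ (Pi.single i 1 + c • Pi.single j 1)) k = M k i + c * M k j := by
    intro i j k c
    rw [Matrix.mulVec_add, Matrix.mulVec_smul, Matrix.mulVec_single_one, Matrix.mulVec_single_one]
    simp
  have off : ∀ k j : Fin 6, k ≠ j → M k j = 0 := by
    intro k j hkj
    obtain ⟨i, hik, hij⟩ : ∃ i : Fin 6, i ≠ k ∧ i ≠ j := by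
      revert k j; decide
    obtain ⟨l1, e1⟩ := h i j hij 1 (Or.inl rfl)
    obtain ⟨l2, e2⟩ := h i j hij K4.w (Or.inr rfl)
    have f1 := congrFun e1 k
    have f2 := congrFun e2 k
    rw [ent] at f1 f2
    simp only [Pi.add_apply, Pi.smul_apply, Pi.single_apply, if_neg hik.symm, if_neg hkj,
      smul_eq_mul, mul_zero, add_zero] at f1 f2
    generalize M k i = a at f1 f2
    generalize M k j = b at f1 f2 ⊢
    revert a b; decide
  have dia : ∀ i j : Fin 6, i ≠ j → M i i = M j j := by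
    intro i j hij
    obtain ⟨l1, e1⟩ := h i j hij 1 (Or.inl rfl)
    have f1 := congrFun e1 i
    have f2 := congrFun e1 j
    rw [ent] at f1 f2
    rw [off i j hij] at f1
    rw [off j i hij.symm] at f2
    simp only [Pi.add_apply, Pi.smul_apply, Pi.single_apply, if_neg hij, if_neg hij.symm,
      if_true, smul_eq_mul, mul_zero, add_zero, mul_one, zero_add, one_mul] at f1 f2
    rw [f1, f2]
  refine ⟨M 0 0, ?_⟩
  ext i j
  by_cases hij : i = j
  · subst hij
    by_cases h0 : i = 0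
    · subst h0; simp
    · simp [dia i 0 h0]
  · simp [off i j hij, hij]

/-- scalar elements of the special unitary group are central -/
theorem central_of_scalar (u : Cfsg.SU 6 K4 2) (a : K4) (h : u.1.1 = Matrix.scalar (Fin 6) a) :
    u ∈ Subgroup.center (Cfsg.SU 6 K4 2) := by
  rw [Subgroup.mem_center_iff]
  intro g
  apply SU_ext
  rw [SU_mul_coe, SU_mul_coe, h]
  exact ((Matrix.scalar_commute a (fun r => mul_comm _ _) g.1.1).eq).symm

/-- normalised vectors: the first non-zero coordinate is one -/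
def Nrm (v : V6) : Prop :=
  v 0 = 1 ∨ (v 0 = 0 ∧ v 1 = 1) ∨ (v 0 = 0 ∧ v 1 = 0 ∧ v 2 = 1) ∨
    (v 0 = 0 ∧ v 1 = 0 ∧ v 2 = 0 ∧ v 3 = 1) ∨ (v 0 = 0 ∧ v 1 = 0 ∧ v 2 = 0 ∧ v 3 = 0 ∧ v 4 = 1) ∨
    (v 0 = 0 ∧ v 1 = 0 ∧ v 2 = 0 ∧ v 3 = 0 ∧ v 4 = 0 ∧ v 5 = 1)

instance (v : V6) : Decidable (Nrm v) := by unfold Nrm; infer_instance

theorem eq_of_nrm {v v' : V6} (hv : Nrm v) (hv' : Nrm v') (c : K4) (h : v = c • v') : v = v' := by
  have e : ∀ i, v i = c * v' i := fun i => by rw [h]; rfl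
  have hc : c = 1 := by
    have e0 := e 0; have e1 := e 1; have e2 := e 2; have e3 := e 3; have e4 := e 4; have e5 := e 5
    unfold Nrm at hv hv'
    rcases hv with a | ⟨a0, a⟩ | ⟨a0, a1, a⟩ | ⟨a0, a1, a2, a⟩ | ⟨a0, a1, a2, a3, a⟩ |
        ⟨a0, a1, a2, a3, a4, a⟩ <;>
      rcases hv' with b | ⟨b0, b⟩ | ⟨b0, b1, b⟩ | ⟨b0, b1, b2, b⟩ | ⟨b0, b1, b2, b3, b⟩ |
        ⟨b0, b1, b2, b3, b4, b⟩ <;> simp_all
  rw [h, hc, one_smul]

end Cfsg.Agent.Lib.Helper40.U6
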