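/-
helper40: the 693 transpositions of Fi22 commuting with `a`, labelled by the isotropic points of the
hermitian space of dimension six over the field with four elements.
-/
import Cfsg.Agent.Lib.Helper40.U6.K4
import Cfsg.Agent.Lib.Helper40.Fi.F22P3510

set_option autoImplicit false
set_option maxRecDepth 100000

namespace Cfsg.Agent.Lib.Helper40.U6

open Cfsg.Agent.Lib.Helper40.PE

/-- coding of field elements -/
def toN : K4 → ℕ
  | .z => 0 | .o => 1 | .w => 2 | .u => 3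

/-- coding of vectors -/
def enc (v : V6) : ℕ :=
  toN (v 0) + 4 * (toN (v 1) + 4 * (toN (v 2) + 4 * (toN (v 3) + 4 * (toN (v 4) + 4 * toN (v 5)))))

theorem dec_enc (v : V6) : dec (enc v) = v := by
  have key : ∀ a0 a1 a2 a3 a4 a5 : K4, dec (enc ![a0, a1, a2, a3, a4, a5]) = ![a0, a1, a2, a3, a4, a5] := by
    decide +kernel
  have e : v = ![v 0, v 1, v 2, v 3, v 4, v 5] := by
    funext i; fin_cases i <;> rfl
  rw [e]; exact key _ _ _ _ _ _

/-- transvections on codes -/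
noncomputable def tfc (n m : ℕ) : ℕ := force m fun m' => enc (tf n (dec m'))

theorem dec_tfc (n m : ℕ) : dec (tfc n m) = tf n (dec m) := by
  rw [tfc, force_eq, dec_enc]

theorem dec_foldr (l : List ℕ) (m : ℕ) : dec (l.foldr tfc m) = l.foldr tf (dec m) := by
  induction l with
  | nil => rfl
  | cons n l ih => rw [List.foldr_cons, List.foldr_cons, dec_tfc, ih]

/-- scalar multiples on codes -/
noncomputable def smc (c m : ℕ) : ℕ := force m fun m' => enc (ofN c • dec m')

theorem dec_smc (c m : ℕ) : dec (smc c m) = ofN c • dec m := by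
  rw [smc, force_eq, dec_enc]

/-- the labels of the points `2817, …, 3509` -/
def tb : List ℕ := [1280, 3328, 2304, 3664, 3589, 2896, 2821, 2000, 2901, 1805, 1360, 3536, 3669, 1285, 3341, 2448, 2997, 2453, 1365, 3501, 2473, 2768, 1680, 3765, 1685, 1965, 2573, 1705, 3045, 2405, 1461, 3549, 3445, 3821, 2733, 1625, 2521, 144, 3984, 3989, 3813, 1637, 2013, 1909, 3053, 2393, 9, 4009, 1753, 1509, 3453, 3541, 2549, 3773, 229, 2781, 2677, 2836, 1693, 913, 249, 3929, 1721, 3209, 2425, 208, 101, 3941, 1517, 1917, 2005, 1781, 3005, 3604, 2461, 3217, 2489, 93, 4057, 905, 1657, 181, 2685, 2773, 2884, 3493, 1645, 1541, 3677, 865, 125, 213, 105, 1300, 3997, 2948, 3361, 628, 1169, 253, 4025, 3097, 1769, 649, 3113, 80, 149, 245, 189, 4085, 1469, 1401, 3652, 1957, 2413, 2309, 2909, 3169, 3716, 1825, 2164, 657, 793, 2537, 3961, 1161, 809, 85, 221, 117, 153, 1348, 2725, 3949, 2868, 3457, 1797, 1789, 724, 3845, 2829, 1009, 1801, 1121, 3993, 68, 165, 109, 17, 1412,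 2593, 2793, 1140, 2852, 3521, 281, 3188, 401, 3633, 4073, 537, 3145, 2185, 553, 2500, 3273, 237, 1373, 1497, 2937, 3636, 1921, 3333, 2557, 2260, 3597, 3313, 3337, 609, 372, 3620, 1985, 1049, 2193, 841, 393, 1065, 969, 173, 3945, 20, 157, 65, 1332, 2689, 4093, 2745, 404, 3012, 3345, 329, 2317, 676, 3065, 3284, 1293, 3073, 3497, 1265, 772, 353, 3777, 1689, 1345, 52, 129, 3876, 1316, 2753, 3561, 884, 1236, 3377, 2073, 2340, 2865, 3649, 585, 3129, 2089, 1732, 713, 2356, 1249, 1449, 2569, 3033, 3705, 1172, 3780, 1809, 1097, 2565, 1549, 2212, 3833, 468, 769, 1961, 753, 3076, 2145, 1841, 825, 297, 1225, 481, 4089, 89, 1641, 1297, 132, 33, 49, 196, 2756, 1476, 2577, 3972, 2649, 1529, 3513, 2196, 356, 737, 3393, 313, 2921, 2121, 2052, 3753, 3236, 593, 980, 2436, 1289, 2729, 513, 3316, 3545, 497, 417, 1028, 257, 3009, 3617, 2457, 2881, 1329, 4036, 1572, 2609, 2025, 1188, 3601, 569, 1201, 2249, 1588, 1945, 2372, 993, 3220, 2985, 3853, 3801, 916, 1124,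 2273, 1857, 1081, 3689, 516, 420, 2129, 1025, 1012, 2009, 2289, 433, 457, 1785, 2813, 185, 2409, 2833, 1409, 3892, 2596, 36, 193, 4033, 1473, 3524, 2612, 3905, 2625, 3860, 1385, 1668, 3417, 1453, 1977, 660, 2148, 2541, 3297, 500, 689, 2969, 2105, 260, 932, 852, 3153, 2324, 2825, 3933, 2777, 2049, 2209, 756, 3172, 1105, 3449, 1185, 465, 340, 2849, 3713, 1949, 1897, 945, 3481, 1604, 996, 2369, 3709, 868, 1913, 1268, 2225, 3737, 337, 2553, 2313, 3581, 2669, 1445, 1513, 233, 2945, 3873, 1313, 3908, 3364, 2692, 3889, 1729, 1988, 3380, 845, 1601, 2628, 3857, 2713, 1433, 1556, 1501, 1881, 2041, 2989, 3925, 612, 1773, 2292, 2493, 3249, 1941, 2941, 3433, 1108, 3156, 849, 948, 929, 3805, 3593, 3673, 1629, 4029, 2805, 121, 2681, 673, 2257, 2132, 1233, 369, 717, 436, 3485, 1901, 3701, 2321, 3300, 1252, 397, 2353, 2533, 1545, 2045, 1885, 3437, 2981, 1437, 2717, 1493, 3049, 1465, 1137, 1569, 3969, 2580, 1405, 1828, 3460, 829, 1585, 2497, 1101, 1844, 3149,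 3396, 797, 1553, 709, 1165, 3965, 2665, 3252, 3037, 4021, 3577, 3757, 3837, 1621, 1725, 4077, 3477, 596, 2397, 1893, 1765, 3792, 1204, 3233, 301, 977, 2485, 2905, 3769, 2477, 3573, 2797, 2661, 217, 721, 2161, 3277, 2228, 2253, 573, 557, 389, 484, 2933, 3797, 3472, 2433, 740, 2189, 285, 837, 3849, 3421, 3749, 1981, 3829, 2109, 3029, 2384, 2973, 1389, 3957, 1397, 4069, 3817, 3001, 625, 1369, 881, 2337, 1665, 1085, 3348, 4061, 1924, 3133, 973, 549, 1053, 333, 3269, 1860, 3101, 589, 2245, 692, 909, 1661, 565, 1069, 3141, 784, 2789, 2809, 1717, 3069, 2389, 3693, 2469, 2037, 3429, 2749, 2709, 3024, 1709, 1936, 2093, 3281, 461, 789, 2525, 1877, 3565, 1429, 2704, 169, 3117, 2181, 2276, 1157, 293, 653, 277, 3136, 2077, 1093, 821, 13, 2653, 3517, 3061, 1616, 2125, 2029, 3685, 3408, 317, 1061, 3741, 2925, 3185, 1653, 1533, 4053, 2741, 4013, 1812, 1229, 3109, 813, 1757, 2085, 645, 3125, 325, 965, 1040, 3213, 2429, 541, 2101, 453, 3088, 581, 3557, 3093,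 832, 576, 1701, 2517, 3413, 1381, 1488, 1045, 901, 1973, 2965, 4048, 2069, 1077, 320, 5, 1525, 2917, 1872, 3920, 1221, 3733, 1744, 3728, 2640, 805, 2421, 1749, 2021, 3509, 4005, 2645, 3205, 533, 2117, 1088, 309, 272, 2112, 528, 1424, 2512, 2960, 2064]

/-- the label of a point -/
def bq (q : ℕ) : V6 := dec (tb.getD (q - 2817) 0)

/-- the generators of the centraliser of `a` and the corresponding products of transvections -/
def pairs : List (List ℕ × List ℕ) := [([8], []), ([0], [1280]), ([1], [2304]), ([2], [1360]), ([4], [144]), ([7], [80]), ([3], [1285]), ([6], [9]), ([8, 5, 0, 1, 2, 3, 8, 5, 0, 1, 2, 3, 8, 5, 0, 1, 2, 3, 8, 5, 0, 1, 2, 3, 8, 5, 0, 1, 2, 3], [165, 1280, 1365, 1360, 1285])]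

theorem pairs_fst : pairs.map Prod.fst = F22P3510.Sw := by decide +kernel

theorem pairs_iso : ∀ e ∈ pairs, ∀ n ∈ e.2, hf (dec n) (dec n) = 0 := by decide +kernel

/-- the check of equivariance at the point `2817 + i` -/
noncomputable def chk (l w : List ℕ) (i : ℕ) : Bool :=
  force (l.foldr tfc (tb.getD i 0)) fun m =>
    force (tb.getD (F22P3510.P.walk w (Nat.add 2817 i) - 2817) 0) fun m' =>
      orB (Nat.beq m m') (orB (Nat.beq m (smc 2 m')) (Nat.beq m (smc 3 m')))

theorem chk_all : ∀ e ∈ pairs, allB (chk e.2 e.1.reverse) 693 = true := by decide +kernel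

theorem tb_length : tb.length = 693 := by decide +kernel

theorem tb_nodup : tb.Nodup := by decide +kernel

theorem tb_nrm : ∀ m ∈ tb, Nrm (dec m) ∧ enc (dec m) = m := by decide +kernel

theorem tb_basis : ∀ i j : Fin 6, i ≠ j → ∀ c : K4, c = 1 ∨ c = K4.w →
    ∃ m ∈ tb, ∃ l : K4, l ≠ 0 ∧ dec m = l • (Pi.single i 1 + c • Pi.single j 1) := by
  decide +kernel

end Cfsg.Agent.Lib.Helper40.U6
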